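import Mathlib

/-!
# X3, `PΩ^±_{2m}(u)`, `m` odd: the numerics, type I (helper5)
-/

set_option autoImplicit false

namespace Cfsg.Agent.R2.Spec.X3.PO

/-- `a ∣ x³ - 1`, `b ∣ x³ - x`, `b - a = s`, `|s| ≤ 2` -/
theorem tw_keyI {x a b s : ℤ} (hx : 5 ≤ x) (hb : 0 < b) (hab : b = a + s)
    (hs : s = 1 ∨ s = 2 ∨ s = -1 ∨ s = -2) (hA : a ∣ x ^ 3 - 1) (hB : b ∣ x ^ 3 - x)
    (hbig : 3 * x ^ 3 ≤ a * b) : (b = x ^ 2 + x ∧ s = -1) ∨ (b = 2 * (x ^ 2 + x) ∧ s = -2) := by
  obtain ⟨Z, hZ⟩ := hB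
  have hpos : 0 < x ^ 3 - x := by nlinarith [sq_nonneg x]
  have hZ0 : 0 < Z := by
    by_contra hc
    have : b * Z ≤ 0 := mul_nonpos_of_nonneg_of_nonpos hb.le (not_lt.1 hc)
    omega
  have hW : a ∣ x - 1 + s * Z := by
    have h1 : x - 1 + s * Z = (x ^ 3 - 1) - a * Z := by
      have : x ^ 3 - x = (a + s) * Z := by rw [hZ, hab]
      linarith
    rw [h1]
    exact dvd_sub hA (Dvd.intro _ rfl)
  by_cases h0 : x - 1 + s * Z = 0
  · rcases hs with rfl | rfl | rfl | rfl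
    · omega
    · omega
    · left
      refine ⟨?_, rfl⟩
      have hZ1 : Z = x - 1 := by linarith
      rw [hZ1] at hZ
      have : (x - 1) * b = (x - 1) * (x ^ 2 + x) := by linarith
      exact mul_left_cancel₀ (by omega) this
    · right
      refine ⟨?_, rfl⟩
      have hZ1 : 2 * Z = x - 1 := by linarith
      have : (x - 1) * b = (x - 1) * (2 * (x ^ 2 + x)) := by
        rw [← hZ1]
        have h2 : (2 * Z) * (2 * (x ^ 2 + x)) = (x - 1) * (2 * (x ^ 2 + x)) := by rw [hZ1]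
        linarith
      exact mul_left_cancel₀ (by omega) this
  · exfalso
    have h1 : a ≤ |x - 1 + s * Z| := Int.le_of_dvd (abs_pos.2 h0) ((dvd_abs _ _).2 hW)
    have h2 : |x - 1 + s * Z| ≤ x - 1 + 2 * Z := by
      rw [abs_le]
      rcases hs with rfl | rfl | rfl | rfl <;> constructor <;> linarith
    have h3 : a ≤ x - 1 + 2 * Z := h1.trans h2
    have h4 : a * b ≤ (x - 1 + 2 * Z) * b := mul_le_mul_of_nonneg_right h3 hb.le
    have h5 : x ^ 3 + 2 * x ≤ (x - 1) * b := by nlinarith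
    have h6 : Z ≤ x - 1 := by
      by_contra hc
      have hc' : x ≤ Z := by omega
      have h7 : b * x ≤ b * Z := mul_le_mul_of_nonneg_left hc' hb.le
      have h8 : b ≤ x ^ 2 - 1 := by
        rw [← hZ] at h7
        have : x * b ≤ x * (x ^ 2 - 1) := by linarith
        exact le_of_mul_le_mul_left this (by omega)
      have h9 : (x - 1) * b ≤ (x - 1) * (x ^ 2 - 1) := mul_le_mul_of_nonneg_left h8 (by omega)
      nlinarith
    have h7 : a ≤ 3 * (x - 1) := by linarith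
    have h8 : b ≤ 3 * x := by rcases hs with h | h | h | h <;> linarith
    have h9 : a * b ≤ (3 * (x - 1)) * (3 * x) := mul_le_mul h7 h8 hb.le (by linarith)
    nlinarith [mul_nonneg (sq_nonneg x) (by linarith : (0 : ℤ) ≤ x - 5)]

/-- `N` is free, type I -/
def FrI (p : ℕ) (x N : ℤ) : Prop := 4 * N ∣ x ^ 3 - 1 ∨ N ∣ p * (x ^ 2 - 1)

/-- twins, type I -/
theorem twI {p X Y : ℕ} {x : ℤ} (hp0 : 0 < p) (hpx : (p : ℤ) ≤ x) (hdv : (p : ℤ) ∣ x) (hx : 5 ≤ x) (hX0 : 0 < X)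
    (hXY : Nat.Coprime X Y) (hd : Y = X + 1 ∨ Y = X + 2) (fX : FrI p x X) (fY : FrI p x Y) :
    (X : ℤ) * Y < 3 * x ^ 3 ∨ ((X : ℤ) = x ^ 2 + x ∧ (Y : ℤ) = x ^ 2 + x + 1) := by
  by_contra hcon
  push Not at hcon
  obtain ⟨hbig, hne⟩ := hcon
  have hx3 : 0 < x ^ 3 - 1 := by nlinarith [sq_nonneg x]
  have hp2 : 0 < (p : ℤ) * (x ^ 2 - 1) := by
    have : (0 : ℤ) < p := by exact_mod_cast hp0
    have : 0 < x ^ 2 - 1 := by nlinarith
    positivity
  have hco : IsCoprime (X : ℤ) (Y : ℤ) := Nat.isCoprime_iff_coprime.2 hXY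
  have hB3 : (p : ℤ) * (x ^ 2 - 1) ∣ x ^ 3 - x := by
    have e : x ^ 3 - x = x * (x ^ 2 - 1) := by ring
    rw [e]
    exact mul_dvd_mul_right hdv _
  have hle : (p : ℤ) * (x ^ 2 - 1) ≤ x ^ 3 := by
    have : (p : ℤ) * (x ^ 2 - 1) ≤ x * (x ^ 2 - 1) := mul_le_mul_of_nonneg_right hpx (by nlinarith)
    nlinarith
  have hx30 : 0 < x ^ 3 := by positivity
  have c4 : ∀ N : ℤ, 4 * N ∣ x ^ 3 - 1 → N ∣ x ^ 3 - 1 := fun N h => (dvd_mul_left _ _).trans h
  -- the mixed cases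
  have mix : ∀ a b : ℕ, 0 < b → ∀ s : ℤ, (b : ℤ) = a + s → (s = 1 ∨ s = 2 ∨ s = -1 ∨ s = -2) →
      4 * (a : ℤ) ∣ x ^ 3 - 1 → (b : ℤ) ∣ p * (x ^ 2 - 1) → 3 * x ^ 3 ≤ (a : ℤ) * b → Nat.Coprime a b →
      ((b : ℤ) = x ^ 2 + x ∧ s = -1) := by
    intro a b hb s hab hs hA hB hbg hcop
    rcases tw_keyI hx (by exact_mod_cast hb) hab hs (c4 _ hA) (hB.trans hB3) hbg with h1 | ⟨h1, h2⟩
    · exact h1
    · exfalso
      have hbe : b % 2 = 0 := by
        have h3 : (2 : ℤ) ∣ (b : ℤ) := by rw [h1]; exact Dvd.intro _ rfl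
        omega
      have hae : a % 2 = 0 := by omega
      have := Nat.dvd_gcd (Nat.dvd_of_mod_eq_zero hae) (Nat.dvd_of_mod_eq_zero hbe)
      rw [hcop] at this
      omega
  rcases fX with h1 | h1 <;> rcases fY with h2 | h2
  · have h3 := Int.le_of_dvd hx3 (hco.mul_dvd (c4 _ h1) (c4 _ h2))
    linarith
  · have := (mix X Y (by omega) (Y - X) (by ring) (by rcases hd with h | h <;> omega) h1 h2 hbig hXY).2
    omega
  · obtain ⟨h3, h4⟩ := mix Y X hX0 (X - Y) (by ring) (by rcases hd with h | h <;> omega) h2 h1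
      (by rw [mul_comm (Y : ℤ) X]; exact hbig) hXY.symm
    exact hne h3 (by omega)
  · have h3 := Int.le_of_dvd hp2 (hco.mul_dvd h1 h2)
    linarith

/-- the check, type I -/
def chkI (u j t : ℕ) : Bool :=
  let z := u ^ (2 * j + 4)
  let x := 4 * t + 5
  let M := (x ^ 2 + 1) / 2
  let X := if u % 2 = 0 then z - 1 else (z - 1) / 2
  !(((u * z) % M == 1 || (u * z) % M == M - 1) && ((x ^ 3 - 1) % (4 * X) == 0 || (x ^ 3 - x) % X == 0))

theorem chkI_all : ((List.range 10).all fun u => (List.range 6).all fun j =>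
    Nat.blt u 2 || Nat.blt 10000 (u ^ (2 * j + 4)) || (List.range 50).all fun t => chkI u j t) = true := by
  decide +kernel

theorem chkI_spec {u j t : ℕ} (hu : 2 ≤ u) (hu' : u < 10) (hj : j < 6) (hz : u ^ (2 * j + 4) ≤ 10000) (ht : t < 50) :
    chkI u j t = true := by
  have h := List.all_eq_true.1 chkI_all u (List.mem_range.2 hu')
  have h2 := List.all_eq_true.1 h j (List.mem_range.2 hj)
  rw [Bool.or_eq_true, Bool.or_eq_true] at h2
  rcases h2 with (h2 | h2) | h2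
  · rw [Nat.blt_eq] at h2; omega
  · rw [Nat.blt_eq] at h2; omega
  · exact List.all_eq_true.1 h2 t (List.mem_range.2 ht)

/-- the twins -/
def TwXY (u z X Y : ℕ) : Prop :=
  (u % 2 = 0 ∧ X + 1 = z ∧ Y = z + 1) ∨ (u % 2 = 1 ∧ 2 * X + 1 = z ∧ 2 * Y = z + 1)

theorem TwXY.step {u z X Y : ℕ} (h : TwXY u z X Y) : (Y = X + 1 ∧ z = 2 * X + 1) ∨ (Y = X + 2 ∧ z = X + 1) := by
  rcases h with ⟨-, h1, h2⟩ | ⟨-, h1, h2⟩ <;> omega

theorem TwXY.cop {u z X Y : ℕ} (h : TwXY u z X Y) (hz : u % 2 = 0 → z % 2 = 0) : Nat.Coprime X Y := by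
  rcases h with ⟨h0, h1, h2⟩ | ⟨-, h1, h2⟩
  · have h5 : Y = X + 2 := by omega
    rw [h5]
    have h6 : Nat.Coprime X 2 := Nat.coprime_two_right.2 (Nat.odd_iff.2 (by have := hz h0; omega))
    simpa using h6
  · have h5 : Y = X + 1 := by omega
    rw [h5]
    simp

theorem TwXY.sq {u z X Y : ℕ} (h : TwXY u z X Y) : z ^ 2 ≤ 4 * (X * Y) + 1 := by
  rcases h.step with ⟨rfl, rfl⟩ | ⟨rfl, rfl⟩ <;> nlinarith

theorem mod_of_dvd {M N : ℕ} (hM : 2 ≤ M) (hN : 1 ≤ N) (h : M ∣ N - 1 ∨ M ∣ N + 1) :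
    N % M = 1 ∨ N % M = M - 1 := by
  rcases h with ⟨k, hk⟩ | ⟨k, hk⟩
  · left
    have : N = 1 + M * k := by omega
    rw [this, Nat.add_mul_mod_self_left, Nat.mod_eq_of_lt (by omega)]
  · right
    have hk0 : 0 < k := by
      rcases Nat.eq_zero_or_pos k with rfl | h
      · omega
      · exact h
    obtain ⟨l, rfl⟩ : ∃ l, k = l + 1 := ⟨k - 1, by omega⟩
    have : N = (M - 1) + M * l := by
      rw [mul_add, mul_one] at hk
      omega
    rw [this, Nat.add_mul_mod_self_left, Nat.mod_eq_of_lt (by omega)]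

/-- **type I** -/
theorem numI {p M X Y u j z : ℕ} {x : ℤ} (hp0 : 0 < p) (hpx : (p : ℤ) ≤ x) (hdv : (p : ℤ) ∣ x) (hx : 5 ≤ x)
    (hx4 : x % 4 = 1) (hM : 2 * (M : ℤ) = x ^ 2 + 1) (hu : 2 ≤ u) (hz : z = u ^ (2 * j + 4))
    (hle : (u - 1) * M ≤ u * z) (hd : M ∣ u * z - 1 ∨ M ∣ u * z + 1) (hXY : TwXY u z X Y)
    (fX : FrI p x X) (fY : FrI p x Y) : False := by
  have hu4 : u ^ 4 ≤ z := by rw [hz]; exact Nat.pow_le_pow_right (by omega) (by omega)
  have h24 : 2 ^ (2 * j + 4) ≤ z := by rw [hz]; exact Nat.pow_le_pow_left hu _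
  have hz16 : 16 ≤ z := le_trans (by
    calc 16 = 2 ^ 4 := rfl
      _ ≤ u ^ 4 := Nat.pow_le_pow_left hu 4) hu4
  have hX0 : 0 < X := by rcases hXY.step with ⟨h1, h2⟩ | ⟨h1, h2⟩ <;> omega
  have hcop := hXY.cop (fun h => by rw [hz, Nat.pow_mod, h, zero_pow (by omega), Nat.zero_mod])
  have hM13 : 13 ≤ M := by
    have : (26 : ℤ) ≤ 2 * M := by rw [hM]; nlinarith
    omega
  have huz : 1 ≤ u * z := Nat.mul_pos (by omega) (by omega)
  -- the region
  have hreg : x < 200 ∧ z < 10000 := by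
    have hxz : x ^ 2 + 1 ≤ 4 * z := by
      have h1 : u * M ≤ u * (2 * z) := by
        obtain ⟨w, rfl⟩ : ∃ w, u = w + 2 := ⟨u - 2, by omega⟩
        rw [show w + 2 - 1 = w + 1 by omega] at hle
        nlinarith
      have h2 : M ≤ 2 * z := Nat.le_of_mul_le_mul_left h1 (by omega)
      have h3 : (M : ℤ) ≤ 2 * z := by exact_mod_cast h2
      linarith
    rcases twI hp0 hpx hdv hx hX0 hcop (by rcases hXY.step with h | h <;> omega) fX fY with h1 | ⟨h1, h2⟩
    · have h3 : (z : ℤ) ^ 2 ≤ 4 * (X * Y) + 1 := by exact_mod_cast hXY.sq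
      have h4 : (z : ℤ) ^ 2 ≤ 12 * x ^ 3 := by linarith
      have h5 : x < 200 := by
        by_contra hc
        push Not at hc
        have h6 : (x ^ 2 + 1) ^ 2 ≤ (4 * z) ^ 2 := pow_le_pow_left₀ (by positivity) hxz 2
        have h7 : 200 * x ^ 3 ≤ x ^ 4 := by
          have : (0 : ℤ) ≤ x ^ 3 := by positivity
          nlinarith
        nlinarith
      refine ⟨h5, ?_⟩
      by_contra hc
      push Not at hc
      have h6 : (10000 : ℤ) ≤ z := by exact_mod_cast hc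
      have h7 : x ^ 3 ≤ 199 ^ 3 := pow_le_pow_left₀ (by omega) (by omega) 3
      nlinarith
    · have hz2 : (z : ℤ) = 2 * x ^ 2 + 2 * x + 1 := by
        rcases hXY.step with ⟨h3, h4⟩ | ⟨h3, h4⟩
        · have : (z : ℤ) = 2 * X + 1 := by exact_mod_cast h4
          rw [this, h1]; ring
        · have : (Y : ℤ) = X + 2 := by exact_mod_cast h3
          omega
      have h3 : (M : ℤ) ≤ u * (2 * x - 1) + 1 := by
        have huZ : (2 : ℤ) ≤ u := by exact_mod_cast hu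
        have e : (u : ℤ) * z = M * (4 * u) + u * (2 * x - 1) := by
          rw [hz2]
          linear_combination (-2 * (u : ℤ)) * hM
        have h5 : 2 ≤ u * (2 * x - 1) := by nlinarith
        rcases hd with hd | hd
        · have h4 : (M : ℤ) ∣ (u : ℤ) * z - 1 := by
            have : ((u * z - 1 : ℕ) : ℤ) = (u : ℤ) * z - 1 := by push_cast [huz]; ring
            rw [← this]; exact_mod_cast hd
          rw [e, show (M : ℤ) * (4 * u) + u * (2 * x - 1) - 1 = (u * (2 * x - 1) - 1) + M * (4 * u) by ring] at h4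
          have h6 := Int.le_of_dvd (by linarith) ((Int.dvd_add_left (dvd_mul_right _ _)).1 h4)
          linarith
        · have h4 : (M : ℤ) ∣ (u : ℤ) * z + 1 := by exact_mod_cast hd
          rw [e, show (M : ℤ) * (4 * u) + u * (2 * x - 1) + 1 = (u * (2 * x - 1) + 1) + M * (4 * u) by ring] at h4
          exact Int.le_of_dvd (by linarith) ((Int.dvd_add_left (dvd_mul_right _ _)).1 h4)
      have hx4u : x ≤ 4 * u := by
        by_contra hc
        push Not at hc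
        have huZ : (2 : ℤ) ≤ u := by exact_mod_cast hu
        nlinarith
      have hu5 : u ≤ 5 := by
        by_contra hc
        push Not at hc
        have huZ : (6 : ℤ) ≤ u := by exact_mod_cast hc
        have h5 : (u : ℤ) ^ 4 ≤ z := by exact_mod_cast hu4
        have h6 : x ^ 2 ≤ (4 * u) ^ 2 := pow_le_pow_left₀ (by omega) hx4u 2
        have h7 : (u : ℤ) ^ 4 ≤ 32 * u ^ 2 + 8 * u + 1 := by
          rw [hz2] at h5
          linarith
        have h8 : 36 * (u : ℤ) ^ 2 ≤ u ^ 4 := by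
          have : (u : ℤ) ^ 4 = u ^ 2 * u ^ 2 := by ring
          rw [this]
          exact mul_le_mul_of_nonneg_right (by nlinarith) (by positivity)
        nlinarith
      have huZ : (u : ℤ) ≤ 5 := by exact_mod_cast hu5
      refine ⟨by omega, ?_⟩
      have hx20 : x ≤ 20 := by omega
      have : (z : ℤ) ≤ 841 := by rw [hz2]; nlinarith
      omega
  obtain ⟨hx200, hz1⟩ := hreg
  obtain ⟨t, ht⟩ : ∃ t : ℕ, x = 4 * t + 5 := ⟨((x - 5) / 4).toNat, by omega⟩
  have hu10 : u < 10 := by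
    by_contra hc
    push Not at hc
    have := Nat.pow_le_pow_left hc 4
    omega
  have hj6 : j < 6 := by
    by_contra hc
    push Not at hc
    have h1 : 2 ^ 16 ≤ 2 ^ (2 * j + 4) := Nat.pow_le_pow_right (by norm_num) (by omega)
    norm_num at h1
    omega
  have hck := chkI_spec hu hu10 hj6 (by rw [← hz]; omega) (t := t) (by omega)
  have hMt : ((4 * t + 5) ^ 2 + 1) / 2 = M := by
    have : (2 * M : ℤ) = ((4 * t + 5) ^ 2 + 1 : ℕ) := by rw [hM, ht]; push_cast; ring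
    have h2 : 2 * M = (4 * t + 5) ^ 2 + 1 := by exact_mod_cast this
    omega
  have hXt : (if u % 2 = 0 then z - 1 else (z - 1) / 2) = X := by
    rcases hXY with ⟨h0, h1, h2⟩ | ⟨h0, h1, h2⟩
    · rw [if_pos h0]; omega
    · rw [if_neg (by omega)]; omega
  have h1 : 1 ≤ (4 * t + 5) ^ 3 := Nat.one_le_pow _ _ (by omega)
  have hlx : (4 * t + 5) ≤ (4 * t + 5) ^ 3 := Nat.le_self_pow (by norm_num) _
  have hmod := mod_of_dvd (by omega) huz hd
  unfold chkI at hck
  simp only [← hz, hMt, hXt] at hck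
  rw [Bool.not_eq_true', Bool.and_eq_false_iff] at hck
  rcases hck with hck | hck
  · rw [Bool.or_eq_false_iff, beq_eq_false_iff_ne, beq_eq_false_iff_ne] at hck
    tauto
  · rw [Bool.or_eq_false_iff, beq_eq_false_iff_ne, beq_eq_false_iff_ne] at hck
    rcases fX with f | f
    · apply hck.1
      apply Nat.mod_eq_zero_of_dvd
      have h3 : ((4 * X : ℕ) : ℤ) ∣ (((4 * t + 5) ^ 3 - 1 : ℕ) : ℤ) := by
        rw [Nat.cast_sub h1]
        push_cast
        rw [ht] at f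
        exact f
      exact_mod_cast h3
    · apply hck.2
      apply Nat.mod_eq_zero_of_dvd
      have h3 : (X : ℤ) ∣ (((4 * t + 5) ^ 3 - (4 * t + 5) : ℕ) : ℤ) := by
        rw [Nat.cast_sub hlx]
        push_cast
        rw [← ht]
        refine f.trans ?_
        have e : x ^ 3 - x = x * (x ^ 2 - 1) := by ring
        rw [e]
        exact mul_dvd_mul_right hdv _
      exact_mod_cast h3

end Cfsg.Agent.R2.Spec.X3.PO
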