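import Cfsg.Agent.R2.Spec.X3.PO.NumI

/-!
# X3, `PΩ^±_{2m}(u)`, `m` odd: the numerics, type II (helper5)
-/

set_option autoImplicit false

namespace Cfsg.Agent.R2.Spec.X3.PO

/-- the region -/
theorem regA {y u z M : ℤ} (hy7 : 7 ≤ y) (hu : 2 ≤ u) (h1 : 4 * y ^ 2 ≤ 13 * M) (h2 : (u - 1) * M ≤ u * z)
    (h4 : u ^ 4 ≤ z) (h3 : (z - 1) * M ≤ 2 * u * (z - 1) + 2 * (u + 1) * ((y ^ 2 + 1) * (y + 1)))
    (h5 : z - 1 ≤ (y ^ 2 + 1) * (y + 1)) : y < 500 := by
  by_contra hc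
  push Not at hc
  have hy0 : 0 < y := by omega
  have hy2 : 0 < y ^ 2 := by positivity
  have hy3 : 0 < y ^ 3 := by positivity
  have e1 : 500 * y ^ 2 ≤ y ^ 3 := by nlinarith
  have e2 : 500 * y ≤ y ^ 2 := by nlinarith
  have e3 : 100 * ((y ^ 2 + 1) * (y + 1)) ≤ 101 * y ^ 3 := by nlinarith
  have e4 : z ≤ 2 * y ^ 3 := by nlinarith
  have e5 : u < y := by
    by_contra hcon
    push Not at hcon
    have h6 : y ^ 4 ≤ u ^ 4 := pow_le_pow_left₀ hy0.le hcon 4
    nlinarith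
  have hz16 : 16 ≤ z := by
    have : (2 : ℤ) ^ 4 ≤ u ^ 4 := pow_le_pow_left₀ (by norm_num) hu 4
    linarith
  have hM0 : 0 < M := by nlinarith
  have e6 : 987 * M ≤ 1000 * (M - 2 * u) := by nlinarith
  have hz1 : 0 ≤ z - 1 := by omega
  have e7 : 987 * ((z - 1) * M) ≤ 2020 * ((u + 1) * y ^ 3) := by
    have a1 : (z - 1) * (987 * M) ≤ (z - 1) * (1000 * (M - 2 * u)) := mul_le_mul_of_nonneg_left e6 hz1
    have a2 : (z - 1) * (M - 2 * u) ≤ 2 * (u + 1) * ((y ^ 2 + 1) * (y + 1)) := by linarith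
    have a3 : 2 * (u + 1) * (100 * ((y ^ 2 + 1) * (y + 1))) ≤ 2 * (u + 1) * (101 * y ^ 3) :=
      mul_le_mul_of_nonneg_left e3 (by omega)
    linarith
  have e8 : z ≤ 7 * ((u + 1) * y) := by
    have a1 : (z - 1) * (4 * y ^ 2) ≤ (z - 1) * (13 * M) := mul_le_mul_of_nonneg_left h1 hz1
    have a2 : y ^ 2 * (3948 * (z - 1)) ≤ y ^ 2 * (26260 * ((u + 1) * y)) := by
      have : y ^ 2 * (26260 * ((u + 1) * y)) = 13 * (2020 * ((u + 1) * y ^ 3)) := by ring
      rw [this]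
      linarith
    have a3 := le_of_mul_le_mul_left a2 hy2
    have a4 : 1500 ≤ (u + 1) * y := by nlinarith
    linarith
  have e9 : 4 * (u - 1) * y ≤ 91 * (u * (u + 1)) := by
    have a1 : (u - 1) * (4 * y ^ 2) ≤ (u - 1) * (13 * M) := mul_le_mul_of_nonneg_left h1 (by omega)
    have a2 : u * z ≤ u * (7 * ((u + 1) * y)) := mul_le_mul_of_nonneg_left e8 (by omega)
    have a3 : y * (4 * (u - 1) * y) ≤ y * (91 * (u * (u + 1))) := by linarith
    exact le_of_mul_le_mul_left a3 hy0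
  have e10 : u ≤ 14 := by
    by_contra hcon
    push Not at hcon
    have a1 : 4 * (u - 1) * u ^ 4 ≤ 4 * (u - 1) * (7 * ((u + 1) * y)) :=
      mul_le_mul_of_nonneg_left (h4.trans e8) (by omega)
    have a2 : 7 * (u + 1) * (4 * (u - 1) * y) ≤ 7 * (u + 1) * (91 * (u * (u + 1))) :=
      mul_le_mul_of_nonneg_left e9 (by omega)
    have a3 : u * (4 * (u - 1) * u ^ 3) ≤ u * (637 * (u + 1) ^ 2) := by linarith
    have a4 := le_of_mul_le_mul_left a3 (by omega)
    obtain ⟨w, rfl⟩ : ∃ w, u = w + 15 := ⟨u - 15, by ring⟩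
    have hw : 0 ≤ w := by omega
    have a5 : 4 * (w + 15 - 1) * (w + 15) ^ 3 - 637 * (w + 15 + 1) ^ 2 =
      4 * w ^ 4 + 236 * w ^ 3 + 4583 * w ^ 2 + 30916 * w + 25928 := by ring
    have a6 : 0 < 4 * w ^ 4 + 236 * w ^ 3 + 4583 * w ^ 2 + 30916 * w + 25928 := by positivity
    linarith
  interval_cases u <;> omega

/-- `N` is free, type II -/
def FrII (p : ℕ) (x δ N : ℤ) : Prop := 2 * N ∣ (x ^ 2 + 1) * (x + 1) ∨ N ∣ p * (x ^ 2 - 1) ∨ 2 * N ∣ δ * (x - 1)

/-- the zero case -/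
theorem zeroII {x a b s : ℤ} (hx : 7 ≤ x ∨ x ≤ -13) (ha : 2 * a = |(x ^ 2 + 1) * (x + 1)|) (hab : b = a + s)
    (hs : |s| ≤ 2) (hb : 0 < b) (hB : b ∣ x ^ 3 - x) : False := by
  obtain ⟨hs1, hs2⟩ := abs_le.1 hs
  rcases hx with hx | hx
  · rw [abs_of_nonneg (by positivity)] at ha
    obtain ⟨Z, hZ⟩ := hB
    have hpos : 0 < x ^ 3 - x := by nlinarith [sq_nonneg x]
    have hZ0 : 0 < Z := by
      by_contra hc
      have : b * Z ≤ 0 := mul_nonpos_of_nonneg_of_nonpos hb.le (not_lt.1 hc)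
      omega
    rcases (by omega : Z = 1 ∨ 2 ≤ Z) with rfl | h2
    · nlinarith [mul_nonneg (sq_nonneg x) (by linarith : (0 : ℤ) ≤ x - 7)]
    · have : b * 2 ≤ b * Z := mul_le_mul_of_nonneg_left h2 hb.le
      nlinarith
  · obtain ⟨y, rfl⟩ : ∃ y, x = -y := ⟨-x, by ring⟩
    have hy : 13 ≤ y := by omega
    have e : ((-y) ^ 2 + 1) * (-y + 1) = -((y ^ 2 + 1) * (y - 1)) := by ring
    have hy1 : 0 ≤ y - 1 := by omega
    rw [e, abs_neg, abs_of_nonneg (by positivity)] at ha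
    have hB' : b ∣ y ^ 3 - y := by
      have : y ^ 3 - y = -((-y) ^ 3 - -y) := by ring
      rw [this]
      exact (dvd_neg).2 hB
    obtain ⟨Z, hZ⟩ := hB'
    have hpos : 0 < y ^ 3 - y := by nlinarith [sq_nonneg y]
    have hZ0 : 0 < Z := by
      by_contra hc
      have : b * Z ≤ 0 := mul_nonpos_of_nonneg_of_nonpos hb.le (not_lt.1 hc)
      omega
    rcases (by omega : Z = 1 ∨ Z = 2 ∨ 3 ≤ Z) with rfl | rfl | h2
    · nlinarith [mul_nonneg (sq_nonneg y) (by linarith : (0 : ℤ) ≤ y - 13)]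
    · nlinarith
    · have : b * 3 ≤ b * Z := mul_le_mul_of_nonneg_left h2 hb.le
      nlinarith [mul_nonneg (sq_nonneg y) (by linarith : (0 : ℤ) ≤ y - 13)]

/-- the mixed case -/
theorem mixII {x δ M u c z a b s τ ε : ℤ} (hx : 7 ≤ x ∨ x ≤ -13) (hM : δ * M = x ^ 2 + x + 1) (hM0 : 0 < M) (hu : 2 ≤ u)
    (hc : (c = 1 ∧ u % 2 = 0) ∨ (c = 2 ∧ u % 2 = 1)) (hz : z = c * a + τ) (hz16 : 16 ≤ z) (hτ : τ = 1 ∨ τ = -1)
    (hε : ε = 1 ∨ ε = -1) (hd : M ∣ u * z - ε) (hab : b = a + s) (hs : |s| ≤ 2) (hb : 0 < b)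
    (hA : 2 * a ∣ (x ^ 2 + 1) * (x + 1)) (hB : b ∣ x ^ 3 - x) :
    (z - 1) * M ≤ 2 * u * (z - 1) + 2 * (u + 1) * ((|x| ^ 2 + 1) * (|x| + 1)) ∧ z - 1 ≤ (|x| ^ 2 + 1) * (|x| + 1) := by
  obtain ⟨w, hw⟩ := hA
  have hne : (x ^ 2 + 1) * (x + 1) ≠ 0 := mul_ne_zero (by positivity) (by omega)
  have hw0 : w ≠ 0 := by
    rintro rfl
    exact hne (by rw [hw, mul_zero])
  have ha0 : 0 < a := by
    rcases hc with ⟨rfl, -⟩ | ⟨rfl, -⟩ <;> rcases hτ with rfl | rfl <;> omega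
  have habs : |(x ^ 2 + 1) * (x + 1)| ≤ (|x| ^ 2 + 1) * (|x| + 1) := by
    rw [abs_mul, abs_of_nonneg (by positivity : (0 : ℤ) ≤ x ^ 2 + 1), sq_abs]
    have h1 : |x + 1| ≤ |x| + 1 := by
      have := abs_add_le x 1
      simpa using this
    exact mul_le_mul_of_nonneg_left h1 (by positivity)
  have habs2 : 2 * a * |w| = |(x ^ 2 + 1) * (x + 1)| := by
    rw [hw, abs_mul, abs_of_pos (by positivity : 0 < 2 * a)]
  have hw1 : 1 ≤ |w| := Int.one_le_abs hw0
  have hca : z - 1 ≤ c * a := by rcases hτ with rfl | rfl <;> omega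
  have hca2 : z - 1 ≤ 2 * a := hca.trans (mul_le_mul_of_nonneg_right (by omega) ha0.le)
  refine ⟨?_, ?_⟩
  · set R := u * c + 2 * w * (u * τ - ε) with hR
    have hMR : M ∣ R := by
      have h1 : R = 2 * w * (u * z - ε) - M * (u * c * x * δ) := by
        rw [hR, hz]
        linear_combination (u * c * x) * hM + (u * c) * hw
      rw [h1]
      exact dvd_sub (hd.mul_left _) (dvd_mul_right _ _)
    have hR0 : R ≠ 0 := by
      intro h0
      have h1 : |u * τ - ε| = u - 1 ∨ |u * τ - ε| = u + 1 := by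
        rcases hτ with rfl | rfl <;> rcases hε with rfl | rfl
        · left; rw [mul_one, abs_of_nonneg (by omega)]
        · right; rw [mul_one, abs_of_nonneg (by omega)]; ring
        · right; rw [show u * -1 - 1 = -(u + 1) by ring, abs_neg, abs_of_nonneg (by omega)]
        · left; rw [show u * -1 - -1 = -(u - 1) by ring, abs_neg, abs_of_nonneg (by omega)]
      have h2 : u * c = 2 * |w| * |u * τ - ε| := by
        have h3 : 2 * w * (u * τ - ε) = -(u * c) := by linarith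
        have h4 := congrArg abs h3
        rw [abs_neg, abs_mul, abs_mul, abs_of_pos (by norm_num : (0 : ℤ) < 2),
          abs_of_nonneg (by rcases hc with ⟨rfl, -⟩ | ⟨rfl, -⟩ <;> positivity : 0 ≤ u * c)] at h4
        exact h4.symm
      have hu2 : u = 2 ∧ |w| = 1 := by
        rcases hc with ⟨rfl, hc'⟩ | ⟨rfl, hc'⟩
        · rcases h1 with h1 | h1
          · rw [h1] at h2
            have hu2 : u = 2 := by nlinarith
            subst hu2
            exact ⟨rfl, by omega⟩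
          · rw [h1] at h2
            nlinarith
        · exfalso
          rcases h1 with h1 | h1
          · rw [h1] at h2
            rcases (by omega : |w| = 1 ∨ 2 ≤ |w|) with h3 | h3
            · rw [h3] at h2; omega
            · have h4 : 2 * (u - 1) ≤ |w| * (u - 1) := mul_le_mul_of_nonneg_right h3 (by omega)
              have h5 : 3 ≤ u := by omega
              linarith
          · rw [h1] at h2
            nlinarith
      exact zeroII hx (by rw [← habs2, hu2.2, mul_one]) hab hs hb hB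
    have h1 : M ≤ |R| := Int.le_of_dvd (abs_pos.2 hR0) ((dvd_abs _ _).2 hMR)
    have h2 : |R| ≤ 2 * u + 2 * |w| * (u + 1) := by
      have h3 : |u * τ - ε| ≤ u + 1 := by
        rcases hτ with rfl | rfl <;> rcases hε with rfl | rfl <;> rw [abs_le] <;> constructor <;> omega
      have h4 : |2 * w * (u * τ - ε)| ≤ 2 * |w| * (u + 1) := by
        rw [abs_mul, abs_mul, abs_of_pos (by norm_num : (0 : ℤ) < 2)]
        exact mul_le_mul_of_nonneg_left h3 (by positivity)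
      have h5 : |u * c| ≤ 2 * u := by
        rw [abs_of_nonneg (by rcases hc with ⟨rfl, -⟩ | ⟨rfl, -⟩ <;> positivity)]
        rcases hc with ⟨rfl, -⟩ | ⟨rfl, -⟩ <;> linarith
      calc |R| ≤ |u * c| + |2 * w * (u * τ - ε)| := abs_add_le _ _
        _ ≤ _ := add_le_add h5 h4
    have h3 : (z - 1) * M ≤ (z - 1) * (2 * u + 2 * |w| * (u + 1)) := mul_le_mul_of_nonneg_left (h1.trans h2) (by omega)
    have h4 : |w| * (z - 1) ≤ |w| * (2 * a) := mul_le_mul_of_nonneg_left hca2 (abs_nonneg _)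
    have h5 : |w| * (z - 1) ≤ (|x| ^ 2 + 1) * (|x| + 1) := by linarith
    have h6 : (u + 1) * (|w| * (z - 1)) ≤ (u + 1) * ((|x| ^ 2 + 1) * (|x| + 1)) := mul_le_mul_of_nonneg_left h5 (by omega)
    linarith
  · have : 2 * a * 1 ≤ 2 * a * |w| := mul_le_mul_of_nonneg_left hw1 (by positivity)
    linarith

/-- the check, type II, positive `x = 4 t + 7` -/
def chkP (u j t : ℕ) : Bool :=
  let z := u ^ (2 * j + 4)
  let x := 4 * t + 7
  let d := if x % 3 = 1 then 3 else 1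
  let M := (x ^ 2 + x + 1) / d
  let X := if u % 2 = 0 then z - 1 else (z - 1) / 2
  !(((u * z) % M == 1 || (u * z) % M == M - 1) &&
    (((x ^ 2 + 1) * (x + 1)) % (2 * X) == 0 || (x ^ 3 - x) % X == 0 || (d * (x - 1)) % (2 * X) == 0))

/-- the check, type II, negative `x = -(4 t + 13)` -/
def chkN (u j t : ℕ) : Bool :=
  let z := u ^ (2 * j + 4)
  let y := 4 * t + 13
  let d := if y % 3 = 2 then 3 else 1
  let M := (y ^ 2 - y + 1) / d
  let X := if u % 2 = 0 then z - 1 else (z - 1) / 2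
  !(((u * z) % M == 1 || (u * z) % M == M - 1) &&
    (((y ^ 2 + 1) * (y - 1)) % (2 * X) == 0 || (y ^ 3 - y) % X == 0 || (d * (y + 1)) % (2 * X) == 0))

theorem chkII_all : ((List.range 106).all fun u => (List.range 12).all fun j =>
    Nat.blt u 2 || Nat.blt 124501001 (u ^ (2 * j + 4)) ||
      (List.range 124).all fun t => chkP u j t && chkN u j t) = true := by
  decide +kernel

theorem chkII_spec {u j t : ℕ} (hu : 2 ≤ u) (hu' : u < 106) (hj : j < 12) (hz : u ^ (2 * j + 4) ≤ 124501001) (ht : t < 124) :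
    chkP u j t = true ∧ chkN u j t = true := by
  have h := List.all_eq_true.1 chkII_all u (List.mem_range.2 hu')
  have h2 := List.all_eq_true.1 h j (List.mem_range.2 hj)
  rw [Bool.or_eq_true, Bool.or_eq_true] at h2
  rcases h2 with (h2 | h2) | h2
  · rw [Nat.blt_eq] at h2; omega
  · rw [Nat.blt_eq] at h2; omega
  · have h3 := List.all_eq_true.1 h2 t (List.mem_range.2 ht)
    rwa [Bool.and_eq_true] at h3

end Cfsg.Agent.R2.Spec.X3.PO
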